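import Groth.Agent.SlopeSumLib.Main
import Groth.Agent.GenusOneSSLib.Main
import Groth.Agent.ResPropLib.Resolve
import Groth.Agent.MiscFlat6.CoprodQProj
import Groth.Agent.DCohRestrLib.Support

/-!
# A semistable line bundle with vanishing Euler characteristic on each component
-/

set_option autoImplicit false
set_option linter.style.haveILetI false
set_option linter.unusedSectionVars false
set_option backward.isDefEq.respectTransparency false
set_option backward.isDefEq.respectTransparency.types false
set_option maxHeartbeats 1000000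
set_option synthInstance.maxHeartbeats 400000

universe u

open CategoryTheory CategoryTheory.Limits AlgebraicGeometry TopologicalSpace Opposite
open BoxSurjLib (cutMod cutη cutMap)
open StabLib

noncomputable section

namespace SlopeSum

variable {k : Type u} [Field k] {X : Scheme.{u}} [X.Over (Spec (CommRingCat.of k))]
  [IsProper (X ↘ Spec (CommRingCat.of k))] [Smooth (X ↘ Spec (CommRingCat.of k))]

theorem isZero_restrict_push {P : Scheme.{u}} (i : P ⟶ X) (U : X.Opens)
    (hU : Disjoint (U : Set X) (Set.range i.base)) (F : P.Modules) :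
    IsZero (((Scheme.Modules.pushforward i).obj F).restrict U.ι) := by
  rw [IsZero.iff_id_eq_zero]
  refine Scheme.Modules.hom_ext _ _ fun W => ConcreteCategory.hom_ext _ _ fun (x : Γ(F, i ⁻¹ᵁ (U.ι ''ᵁ W))) => ?_
  have h : i ⁻¹ᵁ (U.ι ''ᵁ W) = ⊥ := by
    ext x
    simp only [SetLike.mem_coe, TopologicalSpace.Opens.coe_bot, Set.mem_empty_iff_false, iff_false]
    rintro ⟨y, -, hy⟩
    exact Set.disjoint_left.1 hU (show U.ι y ∈ (U : Set X) from y.2) ⟨x, hy.symm⟩
  haveI := MiscFlat6.subsingleton_bot F h
  exact Subsingleton.elim (α := Γ(F, i ⁻¹ᵁ (U.ι ''ᵁ W))) _ _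

theorem isIso_sigma_ι {C : Type*} [Category C] [HasZeroMorphisms C] {ι : Type*} (f : ι → C) [HasCoproduct f]
    (i : ι) (h : ∀ j, j ≠ i → IsZero (f j)) : IsIso (Sigma.ι f i) := by
  classical
  refine ⟨Sigma.desc fun j => if hj : j = i then eqToHom (congrArg f hj) else 0, ?_, ?_⟩
  · rw [Sigma.ι_desc]; simp
  · refine Sigma.hom_ext _ _ fun j => ?_
    by_cases hj : j = i
    · subst hj
      rw [← Category.assoc, Sigma.ι_desc]
      simp
    · exact (h j hj).eq_of_src _ _

variable (X) in
/-- A module with prescribed restrictions to the components. -/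
theorem exists_glue [IsNoetherian X] (Q : (U : X.Opens) → U.toScheme.Modules → Prop)
    (hQ : ∀ (U : X.Opens) (A B : U.toScheme.Modules), (A ≅ B) → Q U A → Q U B)
    (h : ∀ U : X.Opens, IsClopen (U : Set X) → _root_.IsConnected (U : Set X) → ∃ A, Q U A) :
    ∃ M : X.Modules, ∀ U : X.Opens, IsClopen (U : Set X) → _root_.IsConnected (U : Set X) → Q U (M.restrict U.ι) := by
  classical
  haveI := SquareLib.locallyConnected X
  let cc : X → X.Opens := fun x => ⟨connectedComponent x, isOpen_connectedComponent⟩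
  obtain ⟨t, ht⟩ := (isCompact_univ (X := X)).elim_finite_subcover (fun x => (cc x : Set X)) (fun x => (cc x).2)
    fun x _ => Set.mem_iUnion.2 ⟨x, mem_connectedComponent⟩
  let ι : Type u := {U : X.Opens // U ∈ t.image cc}
  have hι : ∀ i : ι, IsClopen (i.1 : Set X) ∧ _root_.IsConnected (i.1 : Set X) := fun i => by
    obtain ⟨x, -, hx⟩ := Finset.mem_image.1 i.2
    rw [← hx]
    exact ⟨⟨isClosed_connectedComponent, isOpen_connectedComponent⟩, isConnected_connectedComponent⟩
  choose A hA using fun i : ι => h i.1 (hι i).1 (hι i).2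
  let f : ι → X.Modules := fun i => (Scheme.Modules.pushforward i.1.ι).obj (A i)
  refine ⟨∐ f, fun U hcl hcn => ?_⟩
  obtain ⟨x, hx⟩ := hcn.1
  obtain ⟨y, hy, hxy⟩ : ∃ y ∈ t, x ∈ cc y := by
    obtain ⟨y, hy⟩ := Set.mem_iUnion.1 (ht (Set.mem_univ x))
    obtain ⟨hy1, hy2⟩ := Set.mem_iUnion.1 hy
    exact ⟨y, hy1, hy2⟩
  have hU : cc y = U := by
    refine Opens.ext (Set.Subset.antisymm (isConnected_connectedComponent.isPreconnected.subset_isClopen hcl
      ⟨x, hxy, hx⟩) fun z hz => ?_)
    have := hcn.isPreconnected.subset_connectedComponent hx hz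
    rwa [← connectedComponent_eq hxy] at this
  let i : ι := ⟨U, hU ▸ Finset.mem_image_of_mem cc hy⟩
  let R := Scheme.Modules.restrictFunctor U.ι
  haveI : IsIso (Sigma.ι (fun j => R.obj (f j)) i) := isIso_sigma_ι _ i fun j hj =>
    isZero_restrict_push j.1.ι U (by
      rw [Scheme.Opens.range_ι, Set.disjoint_left]
      intro z hzU hzj
      refine hj (Subtype.ext (Opens.ext (Set.Subset.antisymm
        ((hι j).2.isPreconnected.subset_isClopen hcl ⟨z, hzj, hzU⟩)
        (hcn.isPreconnected.subset_isClopen (hι j).1 ⟨z, hzU, hzj⟩))))) (A j)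
  exact hQ U _ _ ((asIso ((Scheme.Modules.restrictAdjunction U.ι).counit.app (A i))).symm ≪≫
    asIso (Sigma.ι (fun j => R.obj (f j)) i) ≪≫ (PreservesCoproduct.iso R f).symm) (hA i)

variable (hdim : topologicalKrullDim X ≤ (1 : ℕ)) (hpure : ∀ x : X, ¬ IsOpen ({x} : Set X))

include hdim hpure in
/-- An invertible module with `χ = 0` on a component. -/
theorem exists_invertible_euler_zero [IsAlgClosed k] {U : X.Opens} (hcl : IsClopen (U : Set X))
    (hcn : _root_.IsConnected (U : Set X)) :
    ∃ A : U.toScheme.Modules, PicF.IsInvertible A ∧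
      letI := overU k U
      Curv2.euler k U.toScheme A = 0 := by
  letI := overU k U
  obtain ⟨hint, hp, hs, hd, -⟩ := comp_geometry (k := k) hdim hpure hcl hcn
  haveI := hint
  haveI := hp
  haveI := hs
  obtain ⟨A, hA, hAd⟩ := GenusOneSSLib.exists_invertible_deg (k := k) hd
    (-Curv2.euler k U.toScheme (Coh.structureModule U.toScheme))
  refine ⟨A, hA, ?_⟩
  simp only [Curv2.deg] at hAd
  push_cast at hAd
  omega

variable {L : X.Modules} (hA : CohB1.IsAmple L)

include hdim hpure hA in
/-- The polarisation has positive degree on every component. -/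
theorem degree_pos_cut {U : X.Opens} (hcl : IsClopen (U : Set X)) (hcn : _root_.IsConnected (U : Set X)) :
    0 < Curv2.euler k X (cutMod U L) - Curv2.euler k X (cutMod U (Coh.structureModule X)) := by
  haveI := CurvLib.isNoetherian k (X := X)
  have hO := DevissLib.isCoh_structureModule X
  have hsupp : CohB1.support (cutMod U (Coh.structureModule X)) = (U : Set X) := by
    refine Set.Subset.antisymm (SSComp.support_cut_subset U hcl.1 _) fun x hx hs => ?_
    have hb := SSComp.bijective_stalk U (Coh.structureModule X) hx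
    haveI hs' : Subsingleton ((DerSch.stalkFunctor X x).obj (cutMod U (Coh.structureModule X))) := hs
    exact one_ne_zero (SurfExtLib.smul_oneAt_injective x
      (hb.1 (Subsingleton.elim (α := (DerSch.stalkFunctor X x).obj (cutMod U (Coh.structureModule X)))
        (((DerSch.stalkFunctor X x).map (cutη U (Coh.structureModule X))).hom ((1 : X.presheaf.stalk x) • SurfExtLib.oneAt x))
        (((DerSch.stalkFunctor X x).map (cutη U (Coh.structureModule X))).hom ((0 : X.presheaf.stalk x) • SurfExtLib.oneAt x)))))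
  obtain ⟨-, -, -, -, hd⟩ := comp_geometry (k := k) hdim hpure hcl hcn
  have hc := SSComp.isCoh_cut U hcl.1 hO
  have h := HilbPolyLib.alpha_pos (k := k) hA hc (hPoly_spec hA hc) (d := 1) (by rw [hsupp, hd]; norm_num)
  rw [(alpha_eq_euler (k := k) hA hdim hc).2.2.2] at h
  have ha := al_cut (k := k) hdim hpure hA hcl hcn hO (unit_rank U)
  have h' : (0 : ℤ) < al k L (cutMod U (Coh.structureModule X)) := by exact_mod_cast h
  rw [ha] at h'
  simpa using h'

include hdim hpure in
/-- A coherent submodule of a rank-one bundle on a component. -/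
theorem sub_line_data {C : Scheme.{u}} [C.Over (Spec (CommRingCat.of k))] [IsIntegral C]
    [IsProper (C ↘ Spec (CommRingCat.of k))] [Smooth (C ↘ Spec (CommRingCat.of k))]
    (hd : topologicalKrullDim C = 1) {A G : C.Modules} (hAl : FlatMod.IsFinLocFreeOfRank 1 A) (j : G ⟶ A) [Mono j]
    (hG : Coh.IsCoh G) (h0 : ¬ IsZero G) :
    FlatMod.IsFinLocFreeOfRank 1 G ∧ Curv2.euler k C G ≤ Curv2.euler k C A := by
  obtain ⟨hGr, hCc, hrk, hdg, hz⟩ := CurveVBLib.sub_data (k := k) hd hAl j hG
  have h1 : CurvLib.genRank G = 1 := by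
    have : CurvLib.genRank G ≠ 0 := fun h => h0 (hz h)
    omega
  rw [h1] at hGr
  refine ⟨hGr, ?_⟩
  have h2 := (CurveVBLib.dg_nonneg_of_rank_zero (k := k) hd hCc (by omega)).1
  rw [← CurveVBLib.deg_eq_dg hAl, ← CurveVBLib.deg_eq_dg hGr] at hdg
  simp only [Curv2.deg] at hdg
  omega

include hdim hpure hA in
/-- A sheaf which is invertible with vanishing Euler characteristic on each component is semistable. -/
theorem semistable_of_euler_zero [Nonempty X] {M : X.Modules} (hM : Coh.IsCoh M)
    (h1 : ∀ U : X.Opens, IsClopen (U : Set X) → _root_.IsConnected (U : Set X) →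
      FlatMod.IsFinLocFreeOfRank 1 (M.restrict U.ι) ∧ Curv2.euler k X (cutMod U M) = 0) :
    ShStab.IsSemistable k X L M 1 := by
  haveI : IsNoetherian X := CurvLib.isNoetherian k (X := X)
  haveI := SquareLib.locallyConnected X
  have hal : ∀ U : X.Opens, IsClopen (U : Set X) → _root_.IsConnected (U : Set X) → 0 < al k L (cutMod U M) :=
    fun U hcl hcn => by
      rw [al_cut (k := k) hdim hpure hA hcl hcn hM (h1 U hcl hcn).1]
      simpa using degree_pos_cut (k := k) hdim hpure hA hcl hcn
  have hM0 : ¬ IsZero M := fun hz => by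
    obtain ⟨x⟩ := (inferInstance : Nonempty X)
    have h := hal ⟨connectedComponent x, isOpen_connectedComponent⟩
      ⟨isClosed_connectedComponent, isOpen_connectedComponent⟩ isConnected_connectedComponent
    rw [(euler_al_zero (k := k) (isZero_cut_of _ hz)).2] at h
    exact lt_irrefl _ h
  have hχ : Curv2.euler k X M = 0 := by
    have h := (slope_of_cut (k := k) hA 0 hM fun U hcl hcn =>
      ⟨by rw [(h1 U hcl hcn).2]; simp, Or.inr (hal U hcl hcn)⟩).1
    rw [zero_mul] at h
    exact_mod_cast h
  refine SSComp.semistable_of_cut hA hdim hM hM0 fun U hcl hcn hU0 => ?_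
  obtain ⟨hr, he⟩ := h1 U hcl hcn
  have hc := SSComp.isCoh_cut U hcl.1 hM
  letI := overU k U
  obtain ⟨hint, hp, hs, hd, hdU⟩ := comp_geometry (k := k) hdim hpure hcl hcn
  haveI := hint
  haveI := hp
  haveI := hs
  have key : ∀ (G : X.Modules) (ι : G ⟶ cutMod U M), Mono ι → Coh.IsCoh G → ¬ IsZero G →
      CohB1.support G = (U : Set X) ∧ Curv2.euler k X G ≤ 0 ∧ 0 < al k L G := by
    intro G ι hι hG h0
    haveI := hι
    haveI := SSComp.epi_cutη U hcl.1 G
    have hsub : CohB1.support G ⊆ (U : Set X) := fun x hx =>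
      SSComp.support_cut_subset U hcl.1 M (DevissLib.support_mono ι hx)
    haveI : IsIso (cutη U G) := KFlatLib.isIso_of_stalks _ fun x => by
      refine (ConcreteCategory.isIso_iff_bijective _).2 ?_
      by_cases hx : x ∈ U
      · exact SSComp.bijective_stalk U G hx
      · haveI h1 : Subsingleton ((cutMod U G).presheaf.stalk x) :=
          not_not.1 fun h => hx (SSComp.support_cut_subset U hcl.1 G h)
        haveI h2 : Subsingleton (G.presheaf.stalk x) := not_not.1 fun h => hx (hsub h)
        exact ⟨fun a b _ => Subsingleton.elim (α := G.presheaf.stalk x) a b,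
          fun z => ⟨0, Subsingleton.elim (α := (cutMod U G).presheaf.stalk x) _ _⟩⟩
    let R := Scheme.Modules.restrictFunctor U.ι
    let c : (cutMod U M).restrict U.ι ≅ M.restrict U.ι :=
      asIso ((Scheme.Modules.restrictAdjunction U.ι).counit.app (M.restrict U.ι))
    haveI : Mono (R.map ι) := inferInstance
    have hG0 : ¬ IsZero (G.restrict U.ι) := fun hz =>
      h0 (((Scheme.Modules.pushforward U.ι).map_isZero hz).of_iso (asIso (cutη U G)))
    obtain ⟨hGr, hle⟩ := sub_line_data (k := k) hdim hpure hd hr (R.map ι ≫ c.hom) (StratLib.isCoh_restrict U.ι hG) hG0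
    have e1 : Curv2.euler k X G = Curv2.euler k U.toScheme (G.restrict U.ι) :=
      (CurvLib.euler_congr (asIso (cutη U G))).trans (euler_cut (k := k) hcl.1 hG)
    rw [euler_cut (k := k) hcl.1 hM] at he
    refine ⟨?_, by rw [e1]; exact hle.trans he.le, ?_⟩
    · refine Set.Subset.antisymm hsub fun x hx hsG => ?_
      obtain ⟨φ⟩ := CurvLib.nonempty_stalk_pi_of_locFree hGr ⟨x, hx⟩
      haveI : Subsingleton ((DerSch.stalkFunctor X x).obj G) := hsG
      haveI hsr : Subsingleton ((G.restrict U.ι).presheaf.stalk ⟨x, hx⟩) :=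
        (Groth.Agent.DCohRestrLib.subsingleton_stalk_restrict U.ι G (⟨x, hx⟩ : U.toScheme)).2 hsG
      exact not_subsingleton _ (@Equiv.subsingleton _ _ φ.toEquiv.symm hsr)
    · have ha := al_cut (k := k) hdim hpure hA hcl hcn hG hGr
      have h2 : al k L G = al k L (cutMod U G) := by
        rw [al, al, CurvLib.euler_congr (k := k) (asIso (cutη U G)),
          CurvLib.euler_congr (k := k) (HilbPolyLib.congrLeft (asIso (cutη U G)) L)]
      rw [h2, ha]
      simpa using degree_pos_cut (k := k) hdim hpure hA hcl hcn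
  refine ⟨⟨hc, hU0, fun G ι hι hG h0 => ?_, fun G ι hι hG h0 _ => ?_⟩, ?_⟩
  · rw [(key G ι hι hG h0).1]
    exact_mod_cast hdU
  · obtain ⟨-, hle, hpos⟩ := key G ι hι hG h0
    refine (redLE_hPoly_iff hA hG hc).2 ?_
    obtain ⟨g0, g1, g2, ga⟩ := alpha_eq_euler (k := k) hA hdim hG
    obtain ⟨m0, m1, m2, ma⟩ := alpha_eq_euler (k := k) hA hdim hc
    have hm := hal U hcl hcn
    have hdd : dd 1 (HPoly k L G) (HPoly k L (cutMod U M)) =
        Polynomial.C (-((al k L (cutMod U M) : ℚ) * (Curv2.euler k X G : ℚ))) := by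
      ext i
      match i with
      | 0 => rw [Polynomial.coeff_C]; simp [dd, ga, ma, g0, m0, he, al]
      | 1 => rw [Polynomial.coeff_C]; simp [dd, ga, ma, g1, m1, al]; ring
      | (j + 2) =>
        rw [Polynomial.coeff_C]
        simp [dd, Polynomial.coeff_eq_zero_of_natDegree_lt (show (HPoly k L G).natDegree < j + 2 by omega),
          Polynomial.coeff_eq_zero_of_natDegree_lt (show (HPoly k L (cutMod U M)).natDegree < j + 2 by omega)]
    show 0 ≤ Polynomial.leadingCoeff _
    rw [hdd, Polynomial.leadingCoeff_C]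
    have q1 : (0 : ℚ) ≤ (al k L (cutMod U M) : ℚ) := by exact_mod_cast hm.le
    have q2 : (Curv2.euler k X G : ℚ) ≤ 0 := by exact_mod_cast hle
    nlinarith
  · exact (SSComp.redEq_iff_euler (k := k) hA hdim hc hM).2 (by rw [he, hχ]; ring)

end SlopeSum

end
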