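import Groth.Agent.SlopeSumLib.Basic
import Groth.Agent.SBTautLib.Index
import Groth.Agent.HilbPolyLib.Snapper
import Groth.Agent.SurfExtLib.CBIdeal

/-!
# Slopes of semistable bundles on the components
-/

set_option autoImplicit false
set_option linter.style.haveILetI false
set_option linter.unusedSectionVars false
set_option backward.isDefEq.respectTransparency false
set_option backward.isDefEq.respectTransparency.types false
set_option maxHeartbeats 1000000
set_option synthInstance.maxHeartbeats 400000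

universe u

open CategoryTheory CategoryTheory.Limits AlgebraicGeometry TopologicalSpace Opposite
open BoxSurjLib (cutMod cutη cutMap)
open StabLib

noncomputable section

namespace SlopeSum

variable {k : Type u} [Field k] {X : Scheme.{u}} [X.Over (Spec (CommRingCat.of k))]
  [IsProper (X ↘ Spec (CommRingCat.of k))] [Smooth (X ↘ Spec (CommRingCat.of k))]
  (hdim : topologicalKrullDim X ≤ (1 : ℕ)) (hpure : ∀ x : X, ¬ IsOpen ({x} : Set X))
  {L : X.Modules} (hA : CohB1.IsAmple L)

variable (k) in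
/-- The twisted difference. -/
abbrev al (L G : X.Modules) : ℤ :=
  Curv2.euler k X (CohB1.tensorMod G L) - Curv2.euler k X G

theorem isZero_cut_of (U : X.Opens) {G : X.Modules} (h : IsZero G) : IsZero (cutMod U G) :=
  (Scheme.Modules.pushforward U.ι).map_isZero ((Scheme.Modules.restrictFunctor U.ι).map_isZero h)

include hdim hpure hA in
/-- The twisted difference of the part of a bundle on a component. -/
theorem al_cut {U : X.Opens} (hcl : IsClopen (U : Set X)) (hcn : _root_.IsConnected (U : Set X))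
    {G : X.Modules} (hG : Coh.IsCoh G) {r : ℕ} (hr : FlatMod.IsFinLocFreeOfRank r (G.restrict U.ι)) :
    al k L (cutMod U G) = (r : ℤ) * (Curv2.euler k X (cutMod U L) - Curv2.euler k X (cutMod U (Coh.structureModule X))) := by
  have hLl := CurvLib.locFree_of_isInvertible hA.1
  have hL1 : FlatMod.IsFinLocFreeOfRank 1 (L.restrict U.ι) :=
    SeesawLib.isFinLocFreeOfRank_of_iso (Groth.Agent.S7640.isFinLocFreeOfRank_pb U.ι hLl)
      ((Scheme.Modules.restrictFunctorIsoPullback U.ι).app L)
  obtain ⟨e⟩ := nonempty_cut_tensor hcl.1 (CurveVBLib.isFinLocFree_of_rank hLl) G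
  have hLc := CurvLib.isCoh_of_locFree hLl
  rw [al, CurvLib.euler_congr e,
    euler_cut_tensor (k := k) hdim hpure hcl hcn hG hLc (SBTaut.isCoh_tensor hG hLc) hr hL1]
  push_cast
  ring

include hdim hA in
/-- The data of a semistable bundle on a component. -/
theorem comp_slope (hpure : ∀ x : X, ¬ IsOpen ({x} : Set X)) {E : X.Modules} (hE : FlatMod.IsFinLocFree E)
    (hE0 : ∀ x : X, ¬ Subsingleton (E.presheaf.stalk x)) (hs : ShStab.IsSemistable k X L E 1)
    {U : X.Opens} (hcl : IsClopen (U : Set X)) (hcn : _root_.IsConnected (U : Set X)) :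
    ∃ r : ℕ, FlatMod.IsFinLocFreeOfRank r (E.restrict U.ι) ∧ 0 < r ∧
      0 < Curv2.euler k X (cutMod U L) - Curv2.euler k X (cutMod U (Coh.structureModule X)) ∧
      0 < al k L E ∧
      Curv2.euler k X (cutMod U E) * al k L E = Curv2.euler k X E *
        ((r : ℤ) * (Curv2.euler k X (cutMod U L) - Curv2.euler k X (cutMod U (Coh.structureModule X)))) := by
  haveI : IsNoetherian X := CurvLib.isNoetherian k (X := X)
  haveI : ConnectedSpace U.toScheme := isConnected_iff_connectedSpace.1 hcn
  obtain ⟨r, hr⟩ := VBResLib.exists_rank (LeffEt.isFinLocFree_restrict U.ι hE)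
  obtain ⟨x, hx⟩ := hcn.1
  have h0 : ¬ IsZero (cutMod U E) := fun hz => hE0 x (by
    haveI : Subsingleton ((DerSch.stalkFunctor X x).obj (cutMod U E)) :=
      ModuleCat.subsingleton_of_isZero ((DerSch.stalkFunctor X x).map_isZero hz)
    exact (SSComp.bijective_stalk U E hx).1.subsingleton)
  obtain ⟨hss, heq⟩ := SSComp.semistable_cut U hA hdim hs hcl.1 h0
  have hpos : (0 : ℤ) < al k L (cutMod U E) := by
    have h := alpha_pos_of_pure (k := k) hA hss.2.2.1 (𝟙 _) hss.1 hss.2.1
    rw [(alpha_eq_euler (k := k) hA hdim hss.1).2.2.2] at h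
    exact_mod_cast h
  have hposE : (0 : ℤ) < al k L E := by
    have h := alpha_pos_of_pure (k := k) hA hs.2.2.1 (𝟙 _) hs.1 hs.2.1
    rw [(alpha_eq_euler (k := k) hA hdim hs.1).2.2.2] at h
    exact_mod_cast h
  have ha := al_cut (k := k) hdim hpure hA hcl hcn hs.1 hr
  rw [ha] at hpos
  have hr0 : 0 < r := Nat.pos_of_ne_zero fun h => by simp [h] at hpos
  refine ⟨r, hr, hr0, pos_of_mul_pos_right hpos (Int.natCast_nonneg r), hposE, ?_⟩
  have h := (SSComp.redEq_iff_euler (k := k) hA hdim hss.1 hs.1).1 heq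
  rw [← ha]
  exact h

include hA in
/-- A module whose parts on all components have slope `μ` has slope `μ`. -/
theorem slope_of_cut (μ : ℚ) {G : X.Modules} (hG : Coh.IsCoh G)
    (h : ∀ U : X.Opens, IsClopen (U : Set X) → _root_.IsConnected (U : Set X) →
      (Curv2.euler k X (cutMod U G) : ℚ) = μ * (al k L (cutMod U G) : ℚ) ∧
        (IsZero (cutMod U G) ∨ 0 < al k L (cutMod U G))) :
    (Curv2.euler k X G : ℚ) = μ * (al k L G : ℚ) ∧ (IsZero G ∨ 0 < al k L G) := by
  haveI : IsNoetherian X := CurvLib.isNoetherian k (X := X)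
  have hz : ∀ {G : X.Modules}, IsZero G → Curv2.euler k X G = 0 ∧ al k L G = 0 := fun {G} hG => by
    have h1 := HilbPolyLib.euler_zero (k := k) hG
    have h2 := HilbPolyLib.euler_zero (k := k) ((CurvLib.tensorLeft' L).map_isZero hG)
    have h3 : Curv2.euler k X (CohB1.tensorMod G L) = 0 :=
      (CurvLib.euler_congr (HilbPolyLib.swapIso G L)).trans h2
    exact ⟨h1, by rw [al, h3, h1, sub_zero]⟩
  refine all_of_cut (fun G => (Curv2.euler k X G : ℚ) = μ * (al k L G : ℚ) ∧ (IsZero G ∨ 0 < al k L G))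
    (fun G hG => ⟨by rw [(hz hG).1, (hz hG).2]; simp, Or.inl hG⟩) (fun S hS h₁ h₂ h₃ p₁ p₃ => ?_)
    (fun G G' e p => ?_) hG h
  · have e1 := CurvLib.euler_add_of_isCoh (k := k) hS h₁ h₂ h₃
    have e2 := alpha_add (k := k) hA.1 hS h₁ h₂ h₃
    have e3 : al k L S.X₂ = al k L S.X₁ + al k L S.X₃ := by simp only [al]; omega
    refine ⟨by rw [e3, Int.cast_add, mul_add, ← p₁.1, ← p₃.1]; exact_mod_cast e1, ?_⟩
    rcases p₁.2 with a | a <;> rcases p₃.2 with b | b
    · exact Or.inl (hS.exact.isZero_of_both_isZero a b)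
    · exact Or.inr (by rw [e3, (hz a).2]; omega)
    · exact Or.inr (by rw [e3, (hz b).2]; omega)
    · exact Or.inr (by omega)
  · have e1 := CurvLib.euler_congr (k := k) e
    have e2 : al k L G' = al k L G := by
      rw [al, al, e1, CurvLib.euler_congr (HilbPolyLib.congrLeft e L)]
    exact ⟨by rw [← e1, e2]; exact p.1, p.2.imp (fun h => h.of_iso e.symm) (fun h => by omega)⟩

theorem unit_rank (U : X.Opens) : FlatMod.IsFinLocFreeOfRank 1 ((Coh.structureModule X).restrict U.ι) :=
  SeesawLib.isFinLocFreeOfRank_of_iso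
    (Groth.Agent.S7640.isFinLocFreeOfRank_pb U.ι
      (CurvLib.locFree_of_isInvertible CurvLib.isInvertible_structureModule))
    ((Scheme.Modules.restrictFunctorIsoPullback U.ι).app _)

theorem euler_al_zero {G : X.Modules} (hG : IsZero G) :
    Curv2.euler k X G = 0 ∧ al k L G = 0 := by
  have h1 := HilbPolyLib.euler_zero (k := k) hG
  have h3 : Curv2.euler k X (CohB1.tensorMod G L) = 0 :=
    (CurvLib.euler_congr (HilbPolyLib.swapIso G L)).trans
      (HilbPolyLib.euler_zero (k := k) ((CurvLib.tensorLeft' L).map_isZero hG))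
  exact ⟨h1, by rw [al, h3, h1, sub_zero]⟩

include hA in
theorem pos_of_cut {G : X.Modules} (hG : Coh.IsCoh G)
    (h : ∀ U : X.Opens, IsClopen (U : Set X) → _root_.IsConnected (U : Set X) →
      (IsZero (cutMod U G) ∨ 0 < al k L (cutMod U G))) : IsZero G ∨ 0 < al k L G := by
  haveI : IsNoetherian X := CurvLib.isNoetherian k (X := X)
  refine all_of_cut (fun G => IsZero G ∨ 0 < al k L G) (fun G hG => Or.inl hG)
    (fun S hS h₁ h₂ h₃ p₁ p₃ => ?_) (fun G G' e p => ?_) hG h
  · have e1 := CurvLib.euler_add_of_isCoh (k := k) hS h₁ h₂ h₃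
    have e2 := alpha_add (k := k) hA.1 hS h₁ h₂ h₃
    have e3 : al k L S.X₂ = al k L S.X₁ + al k L S.X₃ := by simp only [al]; omega
    rcases p₁ with a | a <;> rcases p₃ with b | b
    · exact Or.inl (hS.exact.isZero_of_both_isZero a b)
    · exact Or.inr (by rw [e3, (euler_al_zero (k := k) a).2]; omega)
    · exact Or.inr (by rw [e3, (euler_al_zero (k := k) b).2]; omega)
    · exact Or.inr (by omega)
  · have e2 : al k L G' = al k L G := by
      rw [al, al, CurvLib.euler_congr (k := k) e, CurvLib.euler_congr (HilbPolyLib.congrLeft e L)]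
    exact p.imp (fun h => h.of_iso e.symm) (fun h => by omega)

include hA in
/-- The degree of the polarisation is positive. -/
theorem degree_pos [Nonempty X] (hdim : topologicalKrullDim X ≤ (1 : ℕ)) (hpure : ∀ x : X, ¬ IsOpen ({x} : Set X))
    (hd : ∀ U : X.Opens, IsClopen (U : Set X) → _root_.IsConnected (U : Set X) →
      0 < Curv2.euler k X (cutMod U L) - Curv2.euler k X (cutMod U (Coh.structureModule X))) :
    0 < Curv2.euler k X L - Curv2.euler k X (Coh.structureModule X) := by
  have hal : al k L (Coh.structureModule X) = Curv2.euler k X L - Curv2.euler k X (Coh.structureModule X) := by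
    rw [al, CurvLib.euler_congr (k := k) (HilbPolyLib.unitLeft L)]
  rcases pos_of_cut (k := k) hA (DevissLib.isCoh_structureModule X) (fun U hcl hcn => Or.inr (by
      rw [al_cut (k := k) hdim hpure hA hcl hcn (DevissLib.isCoh_structureModule X) (unit_rank U)]
      simpa using hd U hcl hcn)) with h | h
  · obtain ⟨x⟩ := (inferInstance : Nonempty X)
    haveI hs : Subsingleton ((DerSch.stalkFunctor X x).obj (Coh.structureModule X)) :=
      ModuleCat.subsingleton_of_isZero ((DerSch.stalkFunctor X x).map_isZero h)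
    exact absurd (SurfExtLib.smul_oneAt_injective x
      (Subsingleton.elim (α := (DerSch.stalkFunctor X x).obj (Coh.structureModule X))
        ((1 : X.presheaf.stalk x) • SurfExtLib.oneAt x) ((0 : X.presheaf.stalk x) • SurfExtLib.oneAt x)))
      one_ne_zero
  · rwa [hal] at h

theorem slope_arith {a b : ℕ} {eA eB eO xA xB xO αA αB d dU : ℤ} (hA0 : αA ≠ 0) (hB0 : αB ≠ 0) (hd : d ≠ 0)
    (h1 : eA * αA = xA * ((a : ℤ) * dU)) (h2 : eB * αB = xB * ((b : ℤ) * dU)) (h3 : eO * d = xO * dU) :
    (((a : ℤ) * eB + (b : ℤ) * eA - (a : ℤ) * b * eO : ℤ) : ℚ) =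
      ((xA : ℚ) / αA + (xB : ℚ) / αB - (xO : ℚ) / d) * ((((a * b : ℕ) : ℤ) * dU : ℤ) : ℚ) := by
  have q1 : (eA : ℚ) = (xA : ℚ) / αA * ((a : ℚ) * dU) := by
    rw [div_mul_eq_mul_div, eq_div_iff (by exact_mod_cast hA0)]
    exact_mod_cast h1
  have q2 : (eB : ℚ) = (xB : ℚ) / αB * ((b : ℚ) * dU) := by
    rw [div_mul_eq_mul_div, eq_div_iff (by exact_mod_cast hB0)]
    exact_mod_cast h2
  have q3 : (eO : ℚ) = (xO : ℚ) / d * dU := by
    rw [div_mul_eq_mul_div, eq_div_iff (by exact_mod_cast hd)]
    exact_mod_cast h3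
  push_cast
  rw [q1, q2, q3]
  ring

end SlopeSum

end
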