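import Groth.Agent.SSCompLib.Main
import Groth.Agent.CurvLib.EulerTensor
import Groth.Agent.CurveVBLib.Slope
import Groth.Agent.VBResLib.GGen
import Groth.Agent.BlowPtLib.Seq
import Groth.Agent.LeffEtLib.Restrict
import Groth.Agent.HopfIneqLib.Sections
import Groth.Agent.S7791
import Groth.Agent.IntMultLib.CompSum

/-!
# Euler characteristics and slopes on the components of a smooth curve
-/

set_option autoImplicit false
set_option linter.style.haveILetI false
set_option linter.unusedSectionVars false
set_option backward.isDefEq.respectTransparency false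
set_option backward.isDefEq.respectTransparency.types false
set_option maxHeartbeats 1000000
set_option synthInstance.maxHeartbeats 400000

universe u

open CategoryTheory CategoryTheory.Limits AlgebraicGeometry TopologicalSpace Opposite
open BoxSurjLib (cutMod cutη cutMap)
open StabLib

noncomputable section

namespace SlopeSum

variable {k : Type u} [Field k] {X : Scheme.{u}} [X.Over (Spec (CommRingCat.of k))]
  [IsProper (X ↘ Spec (CommRingCat.of k))]

variable (k) in
/-- The structure of `k`-scheme on an open subscheme. -/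
@[reducible] def overU (U : X.Opens) : U.toScheme.Over (Spec (CommRingCat.of k)) :=
  ⟨U.ι ≫ X ↘ Spec (CommRingCat.of k)⟩

/-- A connected component of a smooth curve without isolated points is an integral curve. -/
theorem comp_geometry [Smooth (X ↘ Spec (CommRingCat.of k))] (hdim : topologicalKrullDim X ≤ (1 : ℕ))
    (hpure : ∀ x : X, ¬ IsOpen ({x} : Set X)) {U : X.Opens} (hcl : IsClopen (U : Set X))
    (hcn : _root_.IsConnected (U : Set X)) :
    letI := overU k U
    IsIntegral U.toScheme ∧ IsProper (U.toScheme ↘ Spec (CommRingCat.of k)) ∧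
      Smooth (U.toScheme ↘ Spec (CommRingCat.of k)) ∧ topologicalKrullDim U.toScheme = 1 ∧
      topologicalKrullDim (U : Set X) = 1 := by
  letI := overU k U
  haveI := EtaleChiLib.isClosedImmersion_ι U hcl.1
  haveI : ConnectedSpace U.toScheme := isConnected_iff_connectedSpace.1 hcn
  haveI hsm : Smooth (U.toScheme ↘ Spec (CommRingCat.of k)) :=
    show Smooth (U.ι ≫ X ↘ Spec (CommRingCat.of k)) from inferInstance
  haveI hp : IsProper (U.toScheme ↘ Spec (CommRingCat.of k)) :=
    show IsProper (U.ι ≫ X ↘ Spec (CommRingCat.of k)) from inferInstance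
  haveI hint := Groth.Agent.S7791.isIntegral_of_smooth_connected k U.toScheme (U.toScheme ↘ Spec (CommRingCat.of k))
  have hle : topologicalKrullDim (U : Set X) ≤ (1 : ℕ) := (topologicalKrullDim_subspace_le X _).trans hdim
  have heq : topologicalKrullDim (U : Set X) = 1 := by
    refine le_antisymm (by exact_mod_cast hle) ?_
    haveI : CompactSpace U.toScheme := by
      haveI := CurvLib.isNoetherian k (X := U.toScheme)
      infer_instance
    obtain ⟨p, -, hp'⟩ := (isClosed_univ (X := U.toScheme)).exists_closed_singleton Set.univ_nonempty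
    let a : IrreducibleCloseds U.toScheme := ⟨{p}, isIrreducible_singleton, hp'⟩
    let b : IrreducibleCloseds U.toScheme := ⟨Set.univ, IrreducibleSpace.isIrreducible_univ _, isClosed_univ⟩
    have hab : a < b := lt_of_le_of_ne (Set.subset_univ _) fun h => by
      refine hpure p.1 ?_
      have hU : ({p.1} : Set X) = (U : Set X) := by
        refine Set.Subset.antisymm (fun x hx => (Set.mem_singleton_iff.1 hx) ▸ p.2) fun x hx => ?_
        have h' := (SetLike.ext_iff.1 h (⟨x, hx⟩ : U.toScheme)).2 trivial
        exact congrArg Subtype.val (Set.mem_singleton_iff.1 h')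
      rw [hU]; exact U.2
    show 1 ≤ Order.krullDim (IrreducibleCloseds U.toScheme)
    exact (Order.krullDim_pos_iff.2 ⟨a, b, hab⟩ |> Order.succ_le_of_lt)
  exact ⟨hint, hp, hsm, heq, heq⟩

/-- The Euler characteristic of the part on a clopen subset. -/
theorem euler_cut {U : X.Opens} (hU : IsClosed (U : Set X)) {G : X.Modules} (hG : Coh.IsCoh G) :
    letI := overU k U
    Curv2.euler k X (cutMod U G) = Curv2.euler k U.toScheme (G.restrict U.ι) := by
  letI := overU k U
  haveI := CurvLib.isNoetherian k (X := X)
  haveI := EtaleChiLib.isClosedImmersion_ι U hU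
  haveI := (StratLib.isCoh_restrict U.ι hG).1
  exact (PushLinLib.euler_push k U.ι rfl (G.restrict U.ι)).2.symm

/-- Restriction commutes with tensor products. -/
theorem nonempty_restrict_tensor (U : X.Opens) (A B : X.Modules) :
    Nonempty ((CohB1.tensorMod A B).restrict U.ι ≅ CohB1.tensorMod (A.restrict U.ι) (B.restrict U.ι)) := by
  obtain ⟨e⟩ := BlowPtLib.nonempty_pb_tensor U.ι A B
  let ε := Scheme.Modules.restrictFunctorIsoPullback U.ι
  exact ⟨ε.app _ ≪≫ e ≪≫ HilbPolyLib.congrLeft (ε.app A).symm _ ≪≫ HilbPolyLib.congrRight _ (ε.app B).symm⟩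

/-- Projection formula for the part on a clopen subset. -/
theorem nonempty_cut_tensor {U : X.Opens} (hU : IsClosed (U : Set X)) {L : X.Modules}
    (hL : FlatMod.IsFinLocFree L) (G : X.Modules) :
    Nonempty (CohB1.tensorMod (cutMod U G) L ≅ cutMod U (CohB1.tensorMod G L)) := by
  haveI := EtaleChiLib.isClosedImmersion_ι U hU
  obtain ⟨e⟩ := nonempty_restrict_tensor U G L
  haveI := ProjFormLib.isIso_projApp U.ι hL (G.restrict U.ι)
  let pr : CohB1.tensorMod L (cutMod U G) ≅
      (Scheme.Modules.pushforward U.ι).obj (CohB1.tensorMod ((Scheme.Modules.pullback U.ι).obj L) (G.restrict U.ι)) :=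
    @asIso _ _ _ _ (ProjFormLib.projApp U.ι L (G.restrict U.ι)) inferInstance
  exact ⟨HilbPolyLib.swapIso _ _ ≪≫ pr ≪≫ (Scheme.Modules.pushforward U.ι).mapIso
    (HilbPolyLib.congrLeft ((Scheme.Modules.restrictFunctorIsoPullback U.ι).app L).symm _ ≪≫
      HilbPolyLib.swapIso _ _ ≪≫ e.symm)⟩

/-- Riemann--Roch for a tensor product on an integral curve. -/
theorem euler_tensor_curve {C : Scheme.{u}} [C.Over (Spec (CommRingCat.of k))] [IsIntegral C]
    [IsProper (C ↘ Spec (CommRingCat.of k))] (hdim : topologicalKrullDim C = 1) {a b : ℕ} {A B : C.Modules}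
    (hA : FlatMod.IsFinLocFreeOfRank a A) (hB : FlatMod.IsFinLocFreeOfRank b B) :
    Curv2.euler k C (CohB1.tensorMod A B) = (a : ℤ) * Curv2.euler k C B + (b : ℤ) * Curv2.euler k C A -
      (a : ℤ) * b * Curv2.euler k C (Coh.structureModule C) := by
  have h := (CurvLib.eulerTensorFormula_of_isCoh (k := k) hdim hA B (CurvLib.isCoh_of_locFree hB)).2
  rw [CurveVBLib.genRank_eq hB] at h
  first
    | (change Curv2.euler k C (CohB1.tensorMod A B) = _ at h; rw [h, Curv2.deg]; push_cast; ring)
    | (change Curv2.euler k C (CohB1.tensorMod B A) = _ at h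
       rw [CurvLib.euler_congr (HilbPolyLib.swapIso A B), h, Curv2.deg]; push_cast; ring)

/-- Riemann--Roch for a tensor product on a component. -/
theorem euler_cut_tensor [Smooth (X ↘ Spec (CommRingCat.of k))] (hdim : topologicalKrullDim X ≤ (1 : ℕ))
    (hpure : ∀ x : X, ¬ IsOpen ({x} : Set X)) {U : X.Opens} (hcl : IsClopen (U : Set X))
    (hcn : _root_.IsConnected (U : Set X)) {A B : X.Modules} (hAc : Coh.IsCoh A) (hBc : Coh.IsCoh B)
    (hABc : Coh.IsCoh (CohB1.tensorMod A B)) {a b : ℕ}
    (hA : FlatMod.IsFinLocFreeOfRank a (A.restrict U.ι)) (hB : FlatMod.IsFinLocFreeOfRank b (B.restrict U.ι)) :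
    Curv2.euler k X (cutMod U (CohB1.tensorMod A B)) =
      (a : ℤ) * Curv2.euler k X (cutMod U B) + (b : ℤ) * Curv2.euler k X (cutMod U A) -
        (a : ℤ) * b * Curv2.euler k X (cutMod U (Coh.structureModule X)) := by
  letI := overU k U
  obtain ⟨hint, hp, hs, hd, -⟩ := comp_geometry (k := k) hdim hpure hcl hcn
  haveI := hint
  haveI := hp
  haveI := CurvLib.isNoetherian k (X := X)
  obtain ⟨e⟩ := nonempty_restrict_tensor U A B
  rw [euler_cut (k := k) hcl.1 hABc, euler_cut (k := k) hcl.1 hAc, euler_cut (k := k) hcl.1 hBc,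
    euler_cut (k := k) hcl.1 (DevissLib.isCoh_structureModule X), CurvLib.euler_congr e,
    euler_tensor_curve (k := k) hd hA hB,
    CurvLib.euler_congr ((Scheme.Modules.restrictFunctorIsoPullback U.ι).app (Coh.structureModule X) ≪≫
      KFlatLib.pullUnitIso U.ι)]

/-- The linear coefficient of the Hilbert polynomial. -/
theorem alpha_eq_euler {L : X.Modules} (hA : CohB1.IsAmple L) (hdim : topologicalKrullDim X ≤ (1 : ℕ))
    {P : X.Modules} (hP : Coh.IsCoh P) :
    (HPoly k L P).coeff 0 = Curv2.euler k X P ∧
      (HPoly k L P).coeff 1 = Curv2.euler k X (CohB1.tensorMod P L) - Curv2.euler k X P ∧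
      (HPoly k L P).natDegree ≤ 1 ∧
      StabCat.alpha 1 (HPoly k L P) = Curv2.euler k X (CohB1.tensorMod P L) - Curv2.euler k X P := by
  have hs := hPoly_spec (k := k) hA hP
  have hd := hPoly_deg (k := k) hA hP ((topologicalKrullDim_subspace_le X _).trans hdim)
  have h0 := hs 0
  have h1 := hs 1
  rw [show Curv2.euler k X (ShStab.twist X L P 0) = Curv2.euler k X P from
    CurvLib.euler_congr (HilbPolyLib.swapIso P (Coh.structureModule X) ≪≫ KFlatLib.tensUnitIso P)] at h0
  rw [show Curv2.euler k X (ShStab.twist X L P 1) = Curv2.euler k X (CohB1.tensorMod P L) from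
    CurvLib.euler_congr (HilbPolyLib.swapIso P _ ≪≫ HilbPolyLib.congrLeft (KFlatLib.tensUnitIso L) P ≪≫
      HilbPolyLib.swapIso L P)] at h1
  rw [Polynomial.eq_X_add_C_of_natDegree_le_one hd] at h0 h1
  simp at h0 h1
  refine ⟨h0.symm, by rw [h1, h0]; ring, hd, ?_⟩
  simp [StabCat.alpha]
  rw [h1, h0]; ring

/-- A property closed under extensions which holds on every component holds everywhere. -/
theorem all_of_cut [IsNoetherian X] (P : X.Modules → Prop) (hzero : ∀ G, IsZero G → P G)
    (hext : ∀ S : ShortComplex X.Modules, S.ShortExact → Coh.IsCoh S.X₁ → Coh.IsCoh S.X₂ → Coh.IsCoh S.X₃ →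
      P S.X₁ → P S.X₃ → P S.X₂)
    (hiso : ∀ G G' : X.Modules, (G ≅ G') → P G → P G') {G : X.Modules} (hG : Coh.IsCoh G)
    (hcut : ∀ U : X.Opens, IsClopen (U : Set X) → _root_.IsConnected (U : Set X) → P (cutMod U G)) : P G := by
  haveI := SquareLib.locallyConnected X
  suffices h : ∀ (C : Closeds X) (G : X.Modules), Coh.IsCoh G → CohB1.support G ⊆ (C : Set X) →
      (∀ U : X.Opens, IsClopen (U : Set X) → _root_.IsConnected (U : Set X) → P (cutMod U G)) → P G from
    h ⊤ G hG (Set.subset_univ _) hcut
  intro C
  induction C using WellFoundedLT.induction with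
  | _ C ih =>
    intro G hG hC hcut
    by_cases h0 : IsZero G
    · exact hzero _ h0
    obtain ⟨x, hx⟩ : (CohB1.support G).Nonempty :=
      Set.nonempty_iff_ne_empty.2 fun he => h0 (DevissLib.isZero_of_support_empty he)
    let U : X.Opens := ⟨connectedComponent x, isOpen_connectedComponent⟩
    have hUc : IsClosed (U : Set X) := isClosed_connectedComponent
    haveI := SSComp.epi_cutη U hUc G
    let S : ShortComplex X.Modules := ShortComplex.mk (kernel.ι (cutη U G)) (cutη U G) (kernel.condition _)
    have hS : S.ShortExact := { exact := ShortComplex.exact_of_f_is_kernel S (kernelIsKernel _) }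
    have hc := SSComp.isCoh_cut U hUc hG
    have hK : Coh.IsCoh (kernel (cutη U G)) := QCohLib.isCoh_kernel _ hG hc.1
    refine hext S hS hK hG hc ?_ (hcut U ⟨hUc, U.2⟩ isConnected_connectedComponent)
    refine ih ⟨(C : Set X) \ (U : Set X), C.isClosed.sdiff U.2⟩ ?_ _ hK
      (fun y hy => ⟨hC (SSComp.support_kernel_subset U G hy).1, (SSComp.support_kernel_subset U G hy).2⟩) ?_
    · exact lt_of_le_of_ne (fun y hy => hy.1) fun he => ((SetLike.ext_iff.1 he x).2 (hC hx)).2 mem_connectedComponent
    intro V hV hVn
    by_cases hd : Disjoint (U : Set X) (V : Set X)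
    · let φ := cutMap V (kernel.ι (cutη U G))
      haveI : IsIso φ := KFlatLib.isIso_of_stalks φ fun y => by
        refine (ConcreteCategory.isIso_iff_bijective _).2 ?_
        by_cases hy : y ∈ V
        · have hyU : y ∉ U := fun h => Set.disjoint_left.1 hd h hy
          haveI : Subsingleton ((cutMod U G).presheaf.stalk y) :=
            not_not.1 fun h => hyU (SSComp.support_cut_subset U hUc G h)
          have hi : Function.Injective ((DerSch.stalkFunctor X y).map (kernel.ι (cutη U G))).hom :=
            (ModuleCat.mono_iff_injective _).1 inferInstance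
          have hS' := hS.exact.map (DerSch.stalkFunctor X y)
          rw [ShortComplex.moduleCat_exact_iff] at hS'
          have hsur : Function.Surjective ((DerSch.stalkFunctor X y).map (kernel.ι (cutη U G))).hom := fun z =>
            hS' z (Subsingleton.elim (α := (cutMod U G).presheaf.stalk y) _ _)
          have h1 : Function.Bijective ((DerSch.stalkFunctor X y).map (cutη V (kernel (cutη U G)) ≫ φ)).hom := by
            rw [← SSComp.cutη_naturality, Functor.map_comp]
            exact (SSComp.bijective_stalk V G hy).comp ⟨hi, hsur⟩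
          rw [Functor.map_comp] at h1
          exact (Function.Bijective.of_comp_iff _ (SSComp.bijective_stalk V _ hy)).1 h1
        · haveI h1 : Subsingleton ((cutMod V G).presheaf.stalk y) :=
            not_not.1 fun h => hy (SSComp.support_cut_subset V hV.1 G h)
          haveI h2 : Subsingleton ((cutMod V (kernel (cutη U G))).presheaf.stalk y) :=
            not_not.1 fun h => hy (SSComp.support_cut_subset V hV.1 _ h)
          exact ⟨fun a b _ => Subsingleton.elim (α := (cutMod V (kernel (cutη U G))).presheaf.stalk y) a b,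
            fun z => ⟨0, Subsingleton.elim (α := (cutMod V G).presheaf.stalk y) _ _⟩⟩
      exact hiso _ _ (asIso φ).symm (hcut V hV hVn)
    · refine hzero _ (DevissLib.isZero_of_support_empty (Set.eq_empty_iff_forall_notMem.2 fun y hy => ?_))
      have hyV := SSComp.support_cut_subset V hV.1 _ hy
      obtain ⟨z, hzU, hzV⟩ := Set.not_disjoint_iff.1 hd
      have hVU : (V : Set X) ⊆ connectedComponent x := by
        rw [connectedComponent_eq hzU]
        exact hVn.isPreconnected.subset_connectedComponent hzV
      refine hy ⟨fun a b => ?_⟩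
      haveI : Subsingleton ((kernel (cutη U G)).presheaf.stalk y) :=
        not_not.1 fun h => (SSComp.support_kernel_subset U G h).2 (hVU hyV)
      obtain ⟨a', rfl⟩ := (SSComp.bijective_stalk V (kernel (cutη U G)) hyV).2 a
      obtain ⟨b', rfl⟩ := (SSComp.bijective_stalk V (kernel (cutη U G)) hyV).2 b
      exact congrArg _ (Subsingleton.elim (α := (kernel (cutη U G)).presheaf.stalk y) a' b')

/-- The twisted difference is additive. -/
theorem alpha_add {L : X.Modules} (hL : PicF.IsInvertible L) {S : ShortComplex X.Modules} (hS : S.ShortExact)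
    (h₁ : Coh.IsCoh S.X₁) (h₂ : Coh.IsCoh S.X₂) (h₃ : Coh.IsCoh S.X₃) :
    Curv2.euler k X (CohB1.tensorMod S.X₂ L) = Curv2.euler k X (CohB1.tensorMod S.X₁ L) +
      Curv2.euler k X (CohB1.tensorMod S.X₃ L) := by
  haveI := CurvLib.isNoetherian k (X := X)
  have hE := CurvLib.locFree_of_isInvertible hL
  have hcoh : ∀ M, Coh.IsCoh M → Coh.IsCoh (CohB1.tensorMod L M) := fun M hM =>
    QCohLib.isCoh_of_iso (HilbPolyLib.swapIso M L) (IntMultLib.isCoh_tensor_locFree hE hM)
  have b := CurvLib.euler_add_of_isCoh (k := k) (CurvLib.shortExact_tensor_locFree hE hS)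
    (hcoh _ h₁) (hcoh _ h₂) (hcoh _ h₃)
  have sw : ∀ M : X.Modules, Curv2.euler k X (CohB1.tensorMod L M) = Curv2.euler k X (CohB1.tensorMod M L) :=
    fun M => CurvLib.euler_congr (HilbPolyLib.swapIso L M)
  change Curv2.euler k X (CohB1.tensorMod L S.X₂) = Curv2.euler k X (CohB1.tensorMod L S.X₁) +
    Curv2.euler k X (CohB1.tensorMod L S.X₃) at b
  rwa [sw, sw, sw] at b

end SlopeSum

end
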